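import Cfsg.Agent.Lib.LocalEven.ActiveAmalgam.Final
import Cfsg.Agent.Lib.LocalEven.CharP

/-!
The amalgam theorem for two subgroups of a finite group: the two cores at the base edge.
-/

set_option autoImplicit false

open Cfsg CfsgLib.LocalEven CfsgLib.PLocal
open scoped commutatorElement

namespace CfsgLib.ActiveAmalgam

variable {G : Type*} [Group G]

theorem zt_map {H : Type*} [Group H] {f : H →* G} (hf : Function.Injective f) (A : Subgroup H) :
    zt (A.map f) = (zt A).map f := by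
  refine le_antisymm (fun v hv => ?_) ?_
  · obtain ⟨a, ha, rfl⟩ := zt_le _ hv
    refine ⟨a, mem_zt ha (hf ?_) fun t ht => hf ?_, rfl⟩
    · rw [map_mul, elem_sq (zt_elemAb _) hv, map_one]
    · rw [map_mul, map_mul]
      exact zt_comm _ hv ⟨t, ht, rfl⟩
  · rintro _ ⟨a, ha, rfl⟩
    refine mem_zt ⟨a, zt_le A ha, rfl⟩ ?_ ?_
    · rw [← map_mul, elem_sq (zt_elemAb A) ha, map_one]
    · rintro _ ⟨t, ht, rfl⟩
      rw [← map_mul, ← map_mul, zt_comm A ha ht]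

theorem elemAb_map_iff {H : Type*} [Group H] {f : H →* G} (hf : Function.Injective f)
    (A : Subgroup H) :
    Cfsg.IsElementaryAbelian 2 (A.map f) ↔ Cfsg.IsElementaryAbelian 2 A := by
  refine ⟨fun h => elemAb_of_sq fun a ha => hf ?_, fun h => elemAb_of_sq ?_⟩
  · rw [map_mul, elem_sq h ⟨a, ha, rfl⟩, map_one]
  · rintro _ ⟨a, ha, rfl⟩
    rw [← map_mul, elem_sq h ha, map_one]

theorem core_map {H : Type*} [Group H] {f : H →* G} (hf : Function.Injective f) (A : Subgroup H)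
    [Finite ↥A] : Cfsg.pCoreOf 2 (A.map f) = (Cfsg.pCoreOf 2 A).map f := by
  haveI : Fact (Nat.Prime 2) := ⟨Nat.prime_two⟩
  haveI : Finite ↥(A.map f) := finite_map A f
  refine le_antisymm ?_ (le_pCoreOf (Subgroup.map_mono (pCoreOf_le 2 A))
    ((isPGroup_pCoreOf A).map f) ((Subgroup.map_mono (le_normalizer_pCoreOf 2 A)).trans
      (Subgroup.le_normalizer_map f)))
  set R := Cfsg.pCoreOf 2 (A.map f)
  have hR : R ≤ A.map f := pCoreOf_le 2 _
  have hRe : (R.comap f).map f = R :=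
    Subgroup.map_comap_eq_self (hR.trans (Subgroup.map_le_range f A))
  rw [← hRe]
  refine Subgroup.map_mono (le_pCoreOf ?_ ((isPGroup_pCoreOf _).comap_of_injective f hf) ?_)
  · intro x hx
    obtain ⟨a, ha, e⟩ := hR hx
    rwa [← hf e]
  · intro a ha
    refine Subgroup.mem_normalizer_iff.2 fun x => ?_
    have hn := Subgroup.mem_normalizer_iff.1
      (le_normalizer_pCoreOf 2 (A.map f) ⟨a, ha, rfl⟩) (f x)
    simpa [Subgroup.mem_comap] using hn

theorem Good.of_map {H : Type*} [Group H] [Finite H] {f : H →* G} (hf : Function.Injective f)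
    {P T : Subgroup H} (g : Good (P.map f) (T.map f)) : Good P T := by
  refine ⟨inferInstance, (Subgroup.map_le_map_iff_of_injective hf).1 g.le,
    g.pgroup.of_equiv (T.equivMapOfInjective f hf).symm, ?_, ?_, ?_, ?_⟩
  · rw [← Subgroup.relIndex_map_map_of_injective _ _ hf]; exact g.idx
  · rw [← Subgroup.relIndex_map_map_of_injective _ _ hf, ← core_map hf]; exact g.core2
  · intro x hx
    have h1 : f x ∈ Cfsg.pCoreOf 2 (P.map f) := g.cent ⟨⟨x, hx.1, rfl⟩, by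
      rw [core_map hf]
      refine Subgroup.mem_centralizer_iff.2 ?_
      rintro _ ⟨q, hq, rfl⟩
      rw [← map_mul, ← map_mul, Subgroup.mem_centralizer_iff.1 hx.2 q hq]⟩
    rw [core_map hf] at h1
    exact (Subgroup.mem_map_iff_mem hf).1 h1
  · intro hle
    refine g.act ?_
    rintro _ ⟨x, hx, rfl⟩
    refine Subgroup.mem_centralizer_iff.2 fun v hv => ?_
    rw [zt_map hf] at hv
    obtain ⟨a, ha, rfl⟩ := hv
    rw [← map_mul, ← map_mul, Subgroup.mem_centralizer_iff.1 (hle hx) a ha]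

/-- The facts at the base edge. -/
structure Base (P₁ P₂ T : Subgroup G) : Prop where
  elem₁ : Cfsg.IsElementaryAbelian 2 (Cfsg.pCoreOf 2 P₁)
  elem₂ : Cfsg.IsElementaryAbelian 2 (Cfsg.pCoreOf 2 P₂)
  zcard : Nat.card (zt T) = 2 ∨ Nat.card (zt T) = 4
  card₁ : Nat.card (Cfsg.pCoreOf 2 P₁) = 2 * Nat.card (zt T)
  card₂ : Nat.card (Cfsg.pCoreOf 2 P₂) = 2 * Nat.card (zt T)
  ne : ¬ Cfsg.pCoreOf 2 P₁ ≤ Cfsg.pCoreOf 2 P₂

theorem Hyp.base {X : Type*} [Group X] {P₁ P₂ : Subgroup X} (h : Hyp P₁ P₂) :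
    Base P₁ P₂ (P₁ ⊓ P₂) := by
  obtain ⟨δ, μ, d₁, d₂⟩ := h.exists_edgeData
  have g₁ := h.good d₁.adj
  have g₂ := h.good d₂.adj
  have hz := h.card_zt_cases d₁ d₂
  have c₁ := g₁.card_zt d₁.small
  have c₂ := g₂.card_zt d₂.small
  rw [cg_edgeStab_comm μ δ] at c₂
  have hne : ¬ Cfsg.pCoreOf 2 P₁ ≤ Cfsg.pCoreOf 2 P₂ := by
    have := h.q_not_le (δ := Sum.inl ((1 : X) : X ⧸ P₁)) (μ := Sum.inr ((1 : X) : X ⧸ P₂))
      (cg_adj_iff.2 ⟨1, Or.inl ⟨rfl, rfl⟩⟩)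
    simp only [qv, vertexQ, cg_stab_inl, cg_stab_inr, map_conj_one] at this
    exact this
  haveI := h.good₁.fin
  haveI := h.good₂.fin
  haveI : Fact (Nat.Prime 2) := ⟨Nat.prime_two⟩
  obtain ⟨x, hx⟩ := cg_adj_iff.1 d₁.adj
  have hinj : Function.Injective (MulAut.conj x).toMonoidHom := (MulAut.conj x).injective
  have hT : zt (edgeStabilizer (Sum.inl (x : X ⧸ P₁) : CosetVertex P₁ P₂) (Sum.inr (x : X ⧸ P₂))) =
      (zt (P₁ ⊓ P₂)).map (MulAut.conj x).toMonoidHom := by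
    rw [cg_edgeStab_inl_inr, zt_map_conj]
  have hQ₁ : qv (Sum.inl (x : X ⧸ P₁) : CosetVertex P₁ P₂) =
      (Cfsg.pCoreOf 2 P₁).map (MulAut.conj x).toMonoidHom := by
    simp only [qv, vertexQ, cg_stab_inl, pCoreOf_map_equiv]
  have hQ₂ : qv (Sum.inr (x : X ⧸ P₂) : CosetVertex P₁ P₂) =
      (Cfsg.pCoreOf 2 P₂).map (MulAut.conj x).toMonoidHom := by
    simp only [qv, vertexQ, cg_stab_inr, pCoreOf_map_equiv]
  have e₁ := d₁.elem
  have e₂ := d₂.elem
  rcases hx with ⟨rfl, rfl⟩ | ⟨rfl, rfl⟩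
  · rw [hT, Subgroup.card_map_of_injective hinj] at hz c₁ c₂
    rw [show Cfsg.pCoreOf 2 (gv (Sum.inl (x : X ⧸ P₁) : CosetVertex P₁ P₂)) = _ from hQ₁,
      Subgroup.card_map_of_injective hinj] at c₁
    rw [show Cfsg.pCoreOf 2 (gv (Sum.inr (x : X ⧸ P₂) : CosetVertex P₁ P₂)) = _ from hQ₂,
      Subgroup.card_map_of_injective hinj] at c₂
    rw [hQ₁, elemAb_map_iff hinj] at e₁
    rw [hQ₂, elemAb_map_iff hinj] at e₂
    exact ⟨e₁, e₂, hz, c₁, c₂, hne⟩
  · rw [cg_edgeStab_comm, hT, Subgroup.card_map_of_injective hinj] at hz c₁ c₂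
    rw [show Cfsg.pCoreOf 2 (gv (Sum.inr (x : X ⧸ P₂) : CosetVertex P₁ P₂)) = _ from hQ₂,
      Subgroup.card_map_of_injective hinj] at c₁
    rw [show Cfsg.pCoreOf 2 (gv (Sum.inl (x : X ⧸ P₁) : CosetVertex P₁ P₂)) = _ from hQ₁,
      Subgroup.card_map_of_injective hinj] at c₂
    rw [hQ₁, elemAb_map_iff hinj] at e₂
    rw [hQ₂, elemAb_map_iff hinj] at e₁
    exact ⟨e₂, e₁, hz, c₂, c₁, hne⟩

variable [Finite G]

/-- Two such subgroups of a finite group whose join has trivial 2-core. -/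
theorem exists_hyp {P₁ P₂ T : Subgroup G} (g₁ : Good P₁ T) (g₂ : Good P₂ T)
    (hcore : Cfsg.pCoreOf 2 (P₁ ⊔ P₂) = ⊥) :
    T = P₁ ⊓ P₂ ∧ Hyp (P₁.subgroupOf (P₁ ⊔ P₂)) (P₂.subgroupOf (P₁ ⊔ P₂)) := by
  haveI : Fact (Nat.Prime 2) := ⟨Nat.prime_two⟩
  have hT : T = P₁ ⊓ P₂ := by
    rcases g₁.eq_or_eq (H := P₁ ⊓ P₂) (le_inf g₁.le g₂.le) inf_le_left with e | e
    · exact e.symm
    exfalso
    have hle : P₁ ≤ P₂ := inf_eq_left.1 e
    rcases g₂.eq_or_eq g₁.le hle with e' | e'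
    · have := g₁.idx
      rw [e', Subgroup.relIndex_self] at this
      norm_num at this
    · rw [← e', sup_idem] at hcore
      exact g₁.z_ne_bot (le_bot_iff.1 (g₁.z_le_core.trans hcore.le))
  refine ⟨hT, ?_⟩
  set H := P₁ ⊔ P₂
  have hinj := H.subtype_injective
  have e₁ : (P₁.subgroupOf H).map H.subtype = P₁ := Subgroup.map_subgroupOf_eq_of_le le_sup_left
  have e₂ : (P₂.subgroupOf H).map H.subtype = P₂ := Subgroup.map_subgroupOf_eq_of_le le_sup_right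
  have eT : (P₁.subgroupOf H ⊓ P₂.subgroupOf H).map H.subtype = T := by
    rw [Subgroup.map_inf _ _ _ hinj, e₁, e₂, hT]
  refine ⟨?_, fun N hN hn => ?_, Good.of_map hinj (by rw [e₁, eT]; exact g₁),
    Good.of_map hinj (by rw [e₂, eT]; exact g₂)⟩
  · rw [← Subgroup.subgroupOf_sup le_sup_left le_sup_right, Subgroup.subgroupOf_self]
  · refine (Subgroup.map_eq_bot_iff_of_injective N hinj).1 (le_bot_iff.1 ?_)
    refine (CfsgLib.LocalEvenCharP.le_pCoreOf (Subgroup.map_subtype_le N) ?_ ?_).trans hcore.le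
    · intro x hx
      refine Subgroup.le_normalizer_map H.subtype ⟨⟨x, hx⟩, ?_, rfl⟩
      rw [Subgroup.normalizer_eq_top]; trivial
    · exact g₁.pgroup.to_le ((Subgroup.map_mono hN).trans eT.le)

/-- The base facts for two such subgroups. -/
theorem base_of {P₁ P₂ T : Subgroup G} (g₁ : Good P₁ T) (g₂ : Good P₂ T)
    (hcore : Cfsg.pCoreOf 2 (P₁ ⊔ P₂) = ⊥) : Base P₁ P₂ T := by
  obtain ⟨hT, h⟩ := exists_hyp g₁ g₂ hcore
  set H := P₁ ⊔ P₂
  have hinj := H.subtype_injective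
  have e₁ : (P₁.subgroupOf H).map H.subtype = P₁ := Subgroup.map_subgroupOf_eq_of_le le_sup_left
  have e₂ : (P₂.subgroupOf H).map H.subtype = P₂ := Subgroup.map_subgroupOf_eq_of_le le_sup_right
  have eT : (P₁.subgroupOf H ⊓ P₂.subgroupOf H).map H.subtype = T := by
    rw [Subgroup.map_inf _ _ _ hinj, e₁, e₂, hT]
  have b := h.base
  have c₁ : Cfsg.pCoreOf 2 P₁ = (Cfsg.pCoreOf 2 (P₁.subgroupOf H)).map H.subtype := by
    rw [← core_map hinj, e₁]
  have c₂ : Cfsg.pCoreOf 2 P₂ = (Cfsg.pCoreOf 2 (P₂.subgroupOf H)).map H.subtype := by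
    rw [← core_map hinj, e₂]
  have cz : zt T = (zt (P₁.subgroupOf H ⊓ P₂.subgroupOf H)).map H.subtype := by
    rw [← zt_map hinj, eT]
  refine ⟨?_, ?_, ?_, ?_, ?_, ?_⟩
  · rw [c₁, elemAb_map_iff hinj]; exact b.elem₁
  · rw [c₂, elemAb_map_iff hinj]; exact b.elem₂
  · rw [cz, Subgroup.card_map_of_injective hinj]; exact b.zcard
  · rw [c₁, cz, Subgroup.card_map_of_injective hinj, Subgroup.card_map_of_injective hinj]
    exact b.card₁
  · rw [c₂, cz, Subgroup.card_map_of_injective hinj, Subgroup.card_map_of_injective hinj]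
    exact b.card₂
  · rw [c₁, c₂, Subgroup.map_le_map_iff_of_injective hinj]; exact b.ne

/-- The isomorphism types for two such subgroups. -/
theorem iso_of {P₁ P₂ T : Subgroup G} (g₁ : Good P₁ T) (g₂ : Good P₂ T)
    (hcore : Cfsg.pCoreOf 2 (P₁ ⊔ P₂) = ⊥) :
    (Nonempty (↥P₁ ≃* Equiv.Perm (Fin 4)) ∧ Nonempty (↥P₂ ≃* Equiv.Perm (Fin 4))) ∨
      (Nonempty (↥P₁ ≃* Equiv.Perm (Fin 4) × Multiplicative (ZMod 2)) ∧
        Nonempty (↥P₂ ≃* Equiv.Perm (Fin 4) × Multiplicative (ZMod 2))) := by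
  obtain ⟨-, h⟩ := exists_hyp g₁ g₂ hcore
  have s₁ := (Subgroup.subgroupOfEquivOfLe (le_sup_left : P₁ ≤ P₁ ⊔ P₂)).symm
  have s₂ := (Subgroup.subgroupOfEquivOfLe (le_sup_right : P₂ ≤ P₁ ⊔ P₂)).symm
  exact h.main.imp (fun k => ⟨k.1.map fun e => s₁.trans e, k.2.map fun e => s₂.trans e⟩)
    fun k => ⟨k.1.map fun e => (s₁.trans e).trans MulEquiv.prodComm,
      k.2.map fun e => (s₂.trans e).trans MulEquiv.prodComm⟩

end CfsgLib.ActiveAmalgam
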